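import Cfsg.Agent.H612.Sym
import Cfsg.Agent.KFacts.RgdRigid

/-!
# S4791 + S4927, `POmega+_2m`: the graph automorphism of `W(D_m)` (helper697)

* `D_fix` : a symmetry of the diagram of type `D_(n+2)`, `n ≥ 3`, is trivial or interchanges the last two nodes;
* `exists_perm` : the automorphism `ŵ` of `W(D_(n+2))` satisfies `ŵ t_j = t_(π j) w` for a permutation `π` (`t_j` = the product
  of the sign changes at `j` and at the last coordinate);
* `hat_mem` : if `2 b < n + 2` every double coset of `W_K`, `K = {b, …}`, is stable under all symmetries of the diagram.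
-/

set_option autoImplicit false

namespace Cfsg.Agent.H697.XD

open CoxeterSystem Cfsg.Agent.ChevalleyStructure.CoxeterGeom Cfsg.Agent.KFacts.RgdDiag
open Cfsg.Agent.H612.Sym Cfsg.Agent.Tits.Core

/-! ### symmetries of the diagram -/

theorem D_fix {n : ℕ} (hn : 3 ≤ n) (σ : Equiv.Perm (Fin (n + 2)))
    (hσ : ∀ i j, Nodes.TypeD.M n (σ i) (σ j) = Nodes.TypeD.M n i j) :
    (∀ i : Fin (n + 2), (i : ℕ) < n → σ i = i) ∧
      ∀ i : Fin (n + 2), n ≤ (i : ℕ) → n ≤ (σ i : ℕ) := by
  have hadj : ∀ i j, AdjD n (σ i) (σ j) ↔ AdjD n i j := by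
    intro i j
    rw [← D_eq_three, ← D_eq_three, hσ]
  have h0 : ∀ i : Fin (n + 2), (i : ℕ) = 0 → σ i = i := by
    intro i hi
    by_contra hne
    have h1 : σ i ∈ {i : Fin (n + 2) | (i : ℕ) ≠ 0} := fun h => hne (Fin.ext (h.trans hi.symm))
    rw [← sym_D hn σ hσ] at h1
    obtain ⟨j, hj, hji⟩ := h1
    rw [σ.injective hji] at hj
    exact hj hi
  have key : ∀ k : ℕ, ∀ i : Fin (n + 2), (i : ℕ) = k → k < n → σ i = i := by
    intro k
    induction k using Nat.strong_induction_on with
    | _ k ih =>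
      intro i hi hk
      rcases Nat.eq_zero_or_pos k with rfl | hk0
      · exact h0 i hi
      · let a : Fin (n + 2) := ⟨k - 1, by omega⟩
        have ha : (a : ℕ) = k - 1 := rfl
        have h1 := ih (k - 1) (by omega) a ha (by omega)
        have h2 := (hadj a i).2 (by unfold AdjD; omega)
        rw [h1] at h2
        rcases Nat.lt_or_ge k 2 with hk2 | hk2
        · apply Fin.ext
          unfold AdjD at h2
          omega
        · let c : Fin (n + 2) := ⟨k - 2, by omega⟩
          have hc : (c : ℕ) = k - 2 := rfl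
          have h3 := ih (k - 2) (by omega) c hc (by omega)
          have h4 : (σ i : ℕ) ≠ c := by
            intro h
            have h5 : σ i = σ c := by rw [h3]; exact Fin.ext h
            have h6 := congrArg Fin.val (σ.injective h5)
            omega
          apply Fin.ext
          unfold AdjD at h2
          omega
  refine ⟨fun i hi => key i i rfl hi, fun i hi => ?_⟩
  by_contra hlt
  have h1 := key (σ i) (σ i) rfl (by omega)
  have h2 := congrArg Fin.val (σ.injective h1)
  omega

/-! ### the abstract computation -/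

section abs

variable {G : Type*} [Group G]

/-- `t_(n+1-d)` -/
def tq (s : ℕ → G) (n : ℕ) : ℕ → G
  | 0 => 1
  | 1 => s n * s (n + 1)
  | d + 2 => s (n - 1 - d) * tq s n (d + 1) * s (n - 1 - d)

/-- `t_j` -/
def tj (s : ℕ → G) (n j : ℕ) : G := tq s n (n + 1 - j)

variable {s : ℕ → G} {n : ℕ}

theorem tj_last : tj s n (n + 1) = 1 := by
  unfold tj
  rw [Nat.sub_self]
  rfl

theorem tj_n : tj s n n = s n * s (n + 1) := by
  unfold tj
  rw [Nat.add_sub_cancel_left]
  rfl

theorem tj_lt {j : ℕ} (hj : j < n) : tj s n j = s j * tj s n (j + 1) * s j := by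
  obtain ⟨d, hd⟩ : ∃ d, n = j + d + 1 := ⟨n - j - 1, by omega⟩
  have e1 : n + 1 - j = d + 2 := by omega
  have e2 : n + 1 - (j + 1) = d + 1 := by omega
  have e3 : n - 1 - d = j := by omega
  unfold tj
  rw [e1, e2]
  show s (n - 1 - d) * tq s n (d + 1) * s (n - 1 - d) = _
  rw [e3]

/-- the relations -/
structure Rel (s : ℕ → G) (n : ℕ) : Prop where
  sq : ∀ i, i ≤ n + 1 → s i * s i = 1
  far : ∀ i j, i + 2 ≤ j → j ≤ n + 1 → ¬ (i + 2 = n + 1 ∧ j = n + 1) → s i * s j = s j * s i
  fork : s n * s (n + 1) = s (n + 1) * s n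
  near : ∀ i, i + 1 ≤ n → s i * s (i + 1) * s i = s (i + 1) * s i * s (i + 1)
  near' : ∀ i, i + 2 = n + 1 → s i * s (n + 1) * s i = s (n + 1) * s i * s (n + 1)

variable (R : Rel s n)

include R

theorem Rel.tj_sq {j : ℕ} (hj : j ≤ n + 1) : tj s n j * tj s n j = 1 := by
  rcases Nat.lt_or_ge n j with h | h
  · have : j = n + 1 := by omega
    subst this
    rw [tj_last, one_mul]
  · obtain ⟨d, hd⟩ : ∃ d, n = j + d := ⟨n - j, by omega⟩
    induction d generalizing j with
    | zero =>
      have : j = n := by omega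
      subst this
      rw [tj_n]
      calc s j * s (j + 1) * (s j * s (j + 1)) = s j * (s (j + 1) * s j) * s (j + 1) := by group
        _ = s j * (s j * s (j + 1)) * s (j + 1) := by rw [R.fork]
        _ = (s j * s j) * (s (j + 1) * s (j + 1)) := by group
        _ = 1 := by rw [R.sq j (by omega), R.sq (j + 1) le_rfl, one_mul]
    | succ d ih =>
      have ih' := ih (j := j + 1) (by omega) (by omega) (by omega)
      rw [tj_lt (by omega : j < n)]
      calc s j * tj s n (j + 1) * s j * (s j * tj s n (j + 1) * s j)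
          = s j * tj s n (j + 1) * (s j * s j) * tj s n (j + 1) * s j := by group
        _ = s j * (tj s n (j + 1) * tj s n (j + 1)) * s j := by rw [R.sq j (by omega)]; group
        _ = 1 := by rw [ih', mul_one, R.sq j (by omega)]

/-- `s_i` commutes with `t_j`, `j ≥ i + 2`, `i < n` -/
theorem Rel.comm_gt {i j : ℕ} (hi : i < n) (hij : i + 2 ≤ j) (hj : j ≤ n + 1) : s i * tj s n j = tj s n j * s i := by
  rcases Nat.lt_or_ge n j with h | h
  · have : j = n + 1 := by omega
    subst this
    rw [tj_last, one_mul, mul_one]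
  · obtain ⟨d, hd⟩ : ∃ d, n = j + d := ⟨n - j, by omega⟩
    induction d generalizing j with
    | zero =>
      have : j = n := by omega
      subst this
      rw [tj_n, ← mul_assoc, R.far i j (by omega) (by omega) (by omega), mul_assoc, R.far i (j + 1) (by omega) le_rfl (by omega),
        mul_assoc]
    | succ d ih =>
      have ih' := ih (j := j + 1) (by omega) (by omega) (by omega) (by omega)
      have h1 := R.far i j (by omega) (by omega) (by omega)
      rw [tj_lt (by omega : j < n)]
      calc s i * (s j * tj s n (j + 1) * s j) = (s i * s j) * tj s n (j + 1) * s j := by group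
        _ = s j * (s i * tj s n (j + 1)) * s j := by rw [h1]; group
        _ = s j * tj s n (j + 1) * (s i * s j) := by rw [ih']; group
        _ = s j * tj s n (j + 1) * s j * s i := by rw [h1]; group

/-- `s_i` commutes with `t_j`, `j < i < n` -/
theorem Rel.comm_lt {i j : ℕ} (hi : i < n) (hij : j < i) : s i * tj s n j = tj s n j * s i := by
  obtain ⟨d, hd⟩ : ∃ d, i = j + d + 1 := ⟨i - j - 1, by omega⟩
  induction d generalizing j with
  | zero =>
    have h0 : i = j + 1 := by omega
    subst h0
    have h1 := R.comm_gt (i := j) (j := j + 1 + 1) (by omega) le_rfl (by omega)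
    have h2 := R.near j (by omega)
    rw [tj_lt (by omega : j < n), tj_lt (by omega : j + 1 < n)]
    set a := s j
    set x := s (j + 1)
    set t := tj s n (j + 1 + 1)
    calc x * (a * (x * t * x) * a) = (x * a * x) * t * x * a := by group
      _ = a * x * (a * t) * x * a := by rw [← h2]; group
      _ = a * x * t * (a * x * a) := by rw [h1]; group
      _ = a * (x * t * x) * a * x := by rw [h2]; group
  | succ d ih =>
    have ih' := ih (j := j + 1) (by omega) (by omega)
    have h1 := R.far j i (by omega) (by omega) (by omega)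
    rw [tj_lt (by omega : j < n)]
    calc s i * (s j * tj s n (j + 1) * s j) = (s i * s j) * tj s n (j + 1) * s j := by group
      _ = s j * (s i * tj s n (j + 1)) * s j := by rw [← h1]; group
      _ = s j * tj s n (j + 1) * (s i * s j) := by rw [ih']; group
      _ = s j * tj s n (j + 1) * s j * s i := by rw [← h1]; group

/-- `s_i`, `i < n` -/
theorem Rel.lt_step {i j : ℕ} (hi : i < n) (hj : j ≤ n + 1) :
    s i * tj s n j = tj s n (Equiv.swap i (i + 1) j) * s i := by
  by_cases h1 : j = i
  · subst h1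
    rw [Equiv.swap_apply_left, tj_lt hi]
    calc s j * (s j * tj s n (j + 1) * s j) = (s j * s j) * tj s n (j + 1) * s j := by group
      _ = _ := by rw [R.sq j (by omega), one_mul]
  by_cases h2 : j = i + 1
  · subst h2
    rw [Equiv.swap_apply_right, tj_lt hi]
    calc s i * tj s n (i + 1) = s i * tj s n (i + 1) * 1 := by rw [mul_one]
      _ = _ := by rw [← R.sq i (by omega)]; group
  rw [Equiv.swap_apply_of_ne_of_ne h1 h2]
  rcases Nat.lt_or_ge j i with h3 | h3
  · exact R.comm_lt hi h3
  · exact R.comm_gt hi (by omega) hj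

/-- `s_(n+1) t_j = t_j s_n`, `j < n` -/
theorem Rel.last_lt {j : ℕ} (hj : j < n) : s (n + 1) * tj s n j = tj s n j * s n := by
  obtain ⟨d, hd⟩ : ∃ d, n = j + d + 1 := ⟨n - j - 1, by omega⟩
  induction d generalizing j with
  | zero =>
    have h0 : n = j + 1 := by omega
    have h1 := R.near' j (by omega)
    have h2 := R.near j (by omega)
    have h3 := R.fork
    rw [tj_lt hj]
    have h4 : tj s n (j + 1) = s n * s (n + 1) := by rw [← h0, tj_n]
    rw [h4]
    rw [← h0] at h2
    set a := s j
    set x := s n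
    set y := s (n + 1)
    calc y * (a * (x * y) * a) = y * a * (x * y) * a := by group
      _ = (y * a * y) * x * a := by rw [h3]; group
      _ = a * y * (a * x * a) := by rw [← h1]; group
      _ = a * (y * x) * a * x := by rw [h2]; group
      _ = a * (x * y) * a * x := by rw [h3]
  | succ d ih =>
    have ih' := ih (j := j + 1) (by omega) (by omega)
    have h1 := R.far j n (by omega) (by omega) (by omega)
    have h2 := R.far j (n + 1) (by omega) le_rfl (by omega)
    rw [tj_lt hj]
    calc s (n + 1) * (s j * tj s n (j + 1) * s j) = (s (n + 1) * s j) * tj s n (j + 1) * s j := by group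
      _ = s j * (s (n + 1) * tj s n (j + 1)) * s j := by rw [← h2]; group
      _ = s j * tj s n (j + 1) * (s n * s j) := by rw [ih']; group
      _ = s j * tj s n (j + 1) * s j * s n := by rw [← h1]; group

theorem Rel.n_step {j : ℕ} (hj : j ≤ n + 1) :
    s (n + 1) * tj s n j = tj s n (Equiv.swap n (n + 1) j) * s n := by
  by_cases h1 : j = n
  · subst h1
    rw [Equiv.swap_apply_left, tj_last, tj_n, R.fork, one_mul, ← mul_assoc, R.sq _ le_rfl, one_mul]
  by_cases h2 : j = n + 1
  · subst h2
    rw [Equiv.swap_apply_right, tj_last, tj_n, R.fork, mul_one, mul_assoc, R.sq _ (by omega), mul_one]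
  rw [Equiv.swap_apply_of_ne_of_ne h1 h2]
  exact R.last_lt (by omega)

theorem Rel.last_step {j : ℕ} (hj : j ≤ n + 1) :
    s n * tj s n j = tj s n (Equiv.swap n (n + 1) j) * s (n + 1) := by
  have h1 : Equiv.swap n (n + 1) j ≤ n + 1 := by
    by_cases h1 : j = n
    · rw [h1, Equiv.swap_apply_left]
    by_cases h2 : j = n + 1
    · rw [h2, Equiv.swap_apply_right]; omega
    rw [Equiv.swap_apply_of_ne_of_ne h1 h2]
    exact hj
  have h2 := R.n_step h1
  rw [Equiv.swap_apply_self] at h2
  have e1 : (tj s n j)⁻¹ = tj s n j := inv_eq_of_mul_eq_one_right (R.tj_sq hj)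
  have e2 : (tj s n (Equiv.swap n (n + 1) j))⁻¹ = tj s n (Equiv.swap n (n + 1) j) :=
    inv_eq_of_mul_eq_one_right (R.tj_sq h1)
  have e3 : (s n)⁻¹ = s n := inv_eq_of_mul_eq_one_right (R.sq n (by omega))
  have e4 : (s (n + 1))⁻¹ = s (n + 1) := inv_eq_of_mul_eq_one_right (R.sq (n + 1) le_rfl)
  have h5 := congrArg (fun x => x⁻¹) h2
  simp only [mul_inv_rev, e1, e2, e3, e4] at h5
  exact h5.symm

omit R in
/-- `t_j` lies in the subgroup generated by the `s_i`, `i ≥ b` -/
theorem tj_mem (H : Subgroup G) {b : ℕ} (hb : b ≤ n) (hH : ∀ i, b ≤ i → i ≤ n + 1 → s i ∈ H) {j : ℕ} (hbj : b ≤ j)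
    (hj : j ≤ n + 1) : tj s n j ∈ H := by
  rcases Nat.lt_or_ge n j with h | h
  · have : j = n + 1 := by omega
    subst this
    rw [tj_last]
    exact one_mem H
  · obtain ⟨d, hd⟩ : ∃ d, n = j + d := ⟨n - j, by omega⟩
    induction d generalizing j with
    | zero =>
      have : j = n := by omega
      subst this
      rw [tj_n]
      exact mul_mem (hH _ hb (by omega)) (hH _ (by omega) le_rfl)
    | succ d ih =>
      rw [tj_lt (by omega : j < n)]
      exact mul_mem (mul_mem (hH _ hbj (by omega)) (ih (by omega) (by omega) (by omega) (by omega))) (hH _ hbj (by omega))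

end abs

/-! ### Coxeter systems of type `D` -/

section cox

variable {n : ℕ} {W : Type*} [Group W] (cs : CoxeterSystem (Nodes.TypeD.M n) W)

/-- the simple reflections, indexed by `ℕ` -/
def sn (i : ℕ) : W := if h : i < n + 2 then cs.simple ⟨i, h⟩ else 1

theorem sn_of_lt {i : ℕ} (h : i < n + 2) : sn cs i = cs.simple ⟨i, h⟩ := dif_pos h

theorem sn_val (i : Fin (n + 2)) : sn cs i = cs.simple i := sn_of_lt cs i.2

theorem comm_of {i j : Fin (n + 2)} (h : Nodes.TypeD.M n i j = 2) :
    cs.simple i * cs.simple j = cs.simple j * cs.simple i := by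
  have h1 := cs.simple_mul_simple_pow i j
  rw [h, pow_two] at h1
  have e1 := cs.simple_mul_simple_self i
  have e2 := cs.simple_mul_simple_self j
  have h2 := eq_inv_of_mul_eq_one_left h1
  rwa [mul_inv_rev, inv_eq_of_mul_eq_one_right e1, inv_eq_of_mul_eq_one_right e2] at h2

theorem braid_of {i j : Fin (n + 2)} (h : Nodes.TypeD.M n i j = 3) :
    cs.simple i * cs.simple j * cs.simple i = cs.simple j * cs.simple i * cs.simple j := by
  have h1 := cs.simple_mul_simple_pow i j
  rw [h, pow_succ, pow_two] at h1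
  have e1 := inv_eq_of_mul_eq_one_right (cs.simple_mul_simple_self i)
  have e2 := inv_eq_of_mul_eq_one_right (cs.simple_mul_simple_self j)
  have h2 : (cs.simple i * cs.simple j * cs.simple i) * (cs.simple j * cs.simple i * cs.simple j) = 1 := by
    rw [← h1]; group
  have h3 := eq_inv_of_mul_eq_one_left h2
  simp only [mul_inv_rev, e1, e2] at h3
  rw [h3, mul_assoc]

theorem rel : Rel (sn cs) n where
  sq i hi := by
    rw [sn_of_lt cs (by omega)]
    exact cs.simple_mul_simple_self _
  far i j hij hj hne := by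
    rw [sn_of_lt cs (by omega : i < n + 2), sn_of_lt cs (by omega : j < n + 2)]
    apply comm_of
    rw [D_apply, if_neg (by simp only; omega), if_neg (by simp only; omega)]
  fork := by
    rw [sn_of_lt cs (by omega : n < n + 2), sn_of_lt cs (by omega : n + 1 < n + 2)]
    apply comm_of
    rw [D_apply, if_neg (by simp only; omega), if_neg (by simp only; omega)]
  near i hi := by
    rw [sn_of_lt cs (by omega : i < n + 2), sn_of_lt cs (by omega : i + 1 < n + 2)]
    apply braid_of
    rw [D_eq_three]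
    exact Or.inl (Or.inl ⟨show i + 1 < n + 1 by omega, rfl⟩)
  near' i hi := by
    rw [sn_of_lt cs (by omega : i < n + 2), sn_of_lt cs (by omega : n + 1 < n + 2)]
    apply braid_of
    rw [D_eq_three]
    exact Or.inl (Or.inr ⟨rfl, hi⟩)

/-- **The sign changes.** -/
theorem exists_perm {σ : Equiv.Perm (Fin (n + 2))}
    (hσ : ∀ i j, Nodes.TypeD.M n (σ i) (σ j) = Nodes.TypeD.M n i j) (h1 : ∀ i : Fin (n + 2), (i : ℕ) < n → σ i = i)
    (h2 : (σ ⟨n, by omega⟩ : ℕ) = n + 1) (h3 : (σ ⟨n + 1, by omega⟩ : ℕ) = n) (w : W) :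
    ∃ π : Equiv.Perm ℕ, ∀ j, j ≤ n + 1 → π j ≤ n + 1 ∧ hat cs σ hσ w * tj (sn cs) n j = tj (sn cs) n (π j) * w := by
  have R := rel cs
  obtain ⟨ω, rfl⟩ := cs.wordProd_surjective w
  induction ω with
  | nil => exact ⟨1, fun j hj => ⟨hj, by rw [wordProd_nil, map_one, one_mul, mul_one]; rfl⟩⟩
  | cons i ω ih =>
    obtain ⟨π, hπ⟩ := ih
    have hstep : ∃ τ : Equiv.Perm ℕ, ∀ j, j ≤ n + 1 → τ j ≤ n + 1 ∧
        cs.simple (σ i) * tj (sn cs) n j = tj (sn cs) n (τ j) * cs.simple i := by
      have hi := i.2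
      rcases Nat.lt_or_ge i n with h | h
      · refine ⟨Equiv.swap i (i + 1), fun j hj => ⟨?_, ?_⟩⟩
        · by_cases e1 : j = i
          · rw [e1, Equiv.swap_apply_left]; omega
          by_cases e2 : j = i + 1
          · rw [e2, Equiv.swap_apply_right]; omega
          rwa [Equiv.swap_apply_of_ne_of_ne e1 e2]
        · rw [h1 i h, ← sn_val]
          exact R.lt_step h hj
      have hsw : ∀ j, j ≤ n + 1 → Equiv.swap n (n + 1) j ≤ n + 1 := by
        intro j hj
        by_cases e1 : j = n
        · rw [e1, Equiv.swap_apply_left]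
        by_cases e2 : j = n + 1
        · rw [e2, Equiv.swap_apply_right]; omega
        rwa [Equiv.swap_apply_of_ne_of_ne e1 e2]
      refine ⟨Equiv.swap n (n + 1), fun j hj => ⟨hsw j hj, ?_⟩⟩
      rcases Nat.lt_or_ge n i with h' | h'
      · have e : i = ⟨n + 1, by omega⟩ := Fin.ext (by simp only; omega)
        rw [← sn_val, ← sn_val, e, h3]
        exact R.last_step hj
      · have e : i = ⟨n, by omega⟩ := Fin.ext (by simp only; omega)
        rw [← sn_val, ← sn_val, e, h2]
        exact R.n_step hj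
    obtain ⟨τ, hτ⟩ := hstep
    refine ⟨τ * π, fun j hj => ⟨(hτ _ (hπ j hj).1).1, ?_⟩⟩
    rw [wordProd_cons, map_mul, hat_simple, mul_assoc, (hπ j hj).2, ← mul_assoc, (hτ _ (hπ j hj).1).2, mul_assoc]
    rfl

theorem pigeon' {n b : ℕ} (hb : 2 * b < n + 2) (π : Equiv.Perm ℕ) :
    ∃ j, b ≤ j ∧ j ≤ n + 1 ∧ b ≤ π j := by
  by_contra hcon
  push Not at hcon
  have h1 : (Finset.Icc b (n + 1)).card ≤ (Finset.range b).card :=
    Finset.card_le_card_of_injOn π (fun j hj => by
      rw [Finset.mem_coe, Finset.mem_Icc] at hj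
      rw [Finset.mem_coe, Finset.mem_range]
      exact hcon j hj.1 hj.2) π.injective.injOn
  rw [Nat.card_Icc, Finset.card_range] at h1
  omega

/-- **KEY**: for `2 b < n + 2` the double cosets of `W_K`, `K = {b, …}`, are stable under the symmetries of the diagram. -/
theorem hat_mem (hn : 3 ≤ n) {b : ℕ} (hb : 2 * b < n + 2) (σ : Equiv.Perm (Fin (n + 2)))
    (hσ : ∀ i j, Nodes.TypeD.M n (σ i) (σ j) = Nodes.TypeD.M n i j) (w : W) :
    ∃ u ∈ WJ cs {i : Fin (n + 2) | b ≤ (i : ℕ)}, ∃ v ∈ WJ cs {i : Fin (n + 2) | b ≤ (i : ℕ)},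
      hat cs σ hσ w = u * w * v := by
  obtain ⟨h1, h2⟩ := D_fix hn σ hσ
  have h3 := h2 ⟨n, by omega⟩ le_rfl
  have h4 := h2 ⟨n + 1, by omega⟩ (by simp)
  have h5 := (σ ⟨n, by omega⟩).2
  have h6 := (σ ⟨n + 1, by omega⟩).2
  have h7 : (σ ⟨n, by omega⟩ : ℕ) ≠ σ ⟨n + 1, by omega⟩ := by
    intro h
    have := congrArg Fin.val (σ.injective (Fin.ext h))
    simp at this
  have hs : ∀ i, b ≤ i → i ≤ n + 1 → sn cs i ∈ WJ cs {i : Fin (n + 2) | b ≤ (i : ℕ)} := by
    intro i h8 h9
    rw [sn_of_lt cs (by omega)]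
    exact Subgroup.subset_closure ⟨_, h8, rfl⟩
  rcases Nat.lt_or_ge n (σ ⟨n, by omega⟩ : ℕ) with h8 | h8
  · obtain ⟨π, hπ⟩ := exists_perm cs hσ h1 (by omega) (by omega) w
    obtain ⟨j, hj1, hj2, hj3⟩ := pigeon' hb π
    obtain ⟨h9, h10⟩ := hπ j hj2
    refine ⟨_, tj_mem _ (by omega) hs hj3 h9, _, tj_mem _ (by omega) hs hj1 hj2, ?_⟩
    rw [← h10, mul_assoc, (rel cs).tj_sq hj2, mul_one]
  · have hone : ∀ i, σ i = i := by
      intro i
      rcases Nat.lt_or_ge i n with h | h
      · exact h1 i h
      · rcases Nat.lt_or_ge n i with h' | h'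
        · have e : i = ⟨n + 1, by omega⟩ := Fin.ext (by simp only; omega)
          rw [e]
          exact Fin.ext (by simp only; omega)
        · have e : i = ⟨n, by omega⟩ := Fin.ext (by simp only; omega)
          rw [e]
          exact Fin.ext (by simp only; omega)
    refine ⟨1, one_mem _, 1, one_mem _, ?_⟩
    rw [one_mul, mul_one]
    have h1 : hat cs σ hσ = MonoidHom.id W := by
      apply cs.ext_simple
      intro i
      rw [hat_simple, hone]
      rfl
    rw [h1]
    rfl

end cox

end Cfsg.Agent.H697.XD
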